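import Groth.Agent.GenSmooth5.Target
import Groth.Agent.BertiniAff.Quot
import Mathlib.RingTheory.Smooth.Basic

/-!
# The universal member of a base point free linear system on an affine smooth variety
-/

set_option autoImplicit false
set_option linter.style.haveILetI false
set_option backward.isDefEq.respectTransparency false
set_option backward.isDefEq.respectTransparency.types false

universe u

open CategoryTheory CategoryTheory.Limits AlgebraicGeometry TensorProduct

namespace Groth.Agent.Bertini5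

open MvPolynomial in
/-- The universal hyperplane section is smooth over the base ring. -/
theorem smooth_universal {A : Type u} [CommRing A] {σ : Type} [Fintype σ] (f : σ → A)
    (hf : Ideal.span (Set.range f) = ⊤) :
    Algebra.Smooth A (MvPolynomial σ A ⧸ Ideal.span {∑ i, C (f i) * X i}) := by
  classical
  obtain ⟨g, hg⟩ := (Ideal.mem_span_range_iff_exists_fun).1 (hf.symm ▸ Submodule.mem_top : (1 : A) ∈ Ideal.span (Set.range f))
  let d : Derivation A (MvPolynomial σ A) (MvPolynomial σ A) := MvPolynomial.mkDerivation A fun i => C (g i)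
  haveI : Algebra.FormallySmooth A (MvPolynomial σ A ⧸ Ideal.span {∑ i, C (f i) * X i}) := by
    refine BertiniAff.formallySmooth_quotient (∑ i, C (f i) * X i : MvPolynomial σ A) d.liftKaehlerDifferential ?_
    rw [Derivation.liftKaehlerDifferential_comp_D]
    simp only [map_sum, Derivation.leibniz, d, MvPolynomial.mkDerivation_X, MvPolynomial.derivation_C,
      smul_eq_mul, mul_zero, add_zero]
    simp_rw [← map_mul, mul_comm (f _), ← map_sum, hg, map_one]
  haveI : Algebra.FinitePresentation A (MvPolynomial σ A ⧸ Ideal.span {∑ i, C (f i) * X i}) :=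
    Algebra.FinitePresentation.quotient ⟨{∑ i, C (f i) * X i}, by simp⟩
  exact {}

set_option maxHeartbeats 400000 in
/-- Smoothness of a base change to a ring mapping into the good open. -/
theorem smooth_baseChange {P B : Type u} [CommRing P] [CommRing B] [Algebra P B]
    (V : (Spec (CommRingCat.of P)).Opens)
    (hV : Smooth (Spec.map (CommRingCat.ofHom (algebraMap P B)) ∣_ V)) (P' : Type u) [CommRing P'] [Algebra P P']
    (hrange : Set.range (Spec.map (CommRingCat.ofHom (algebraMap P P'))) ⊆ V) :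
    Algebra.Smooth P' (P' ⊗[P] B) := by
  let q := Spec.map (CommRingCat.ofHom (algebraMap P B))
  let π := Spec.map (CommRingCat.ofHom (algebraMap P P'))
  let c' := IsOpenImmersion.lift V.ι π (by rw [Scheme.Opens.range_ι]; exact hrange)
  have sq : IsPullback (Spec.map (CommRingCat.ofHom (Algebra.TensorProduct.includeRight (R := P) (A := P') (B := B)).toRingHom))
      (Spec.map (CommRingCat.ofHom (algebraMap P' (P' ⊗[P] B)))) q π :=
    (AlgebraicGeometry.isPullback_SpecMap_of_isPushout _ _ _ _ (CommRingCat.isPushout_tensorProduct P P' B)).flip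
  let m' := IsOpenImmersion.lift (q ⁻¹ᵁ V).ι
      (Spec.map (CommRingCat.ofHom (Algebra.TensorProduct.includeRight (R := P) (A := P') (B := B)).toRingHom)) (by
    rw [Scheme.Opens.range_ι]
    rintro _ ⟨z, rfl⟩
    show q _ ∈ V
    rw [← Scheme.Hom.comp_apply, sq.w, Scheme.Hom.comp_apply]
    exact hrange ⟨_, rfl⟩)
  have hsm : Smooth (Spec.map (CommRingCat.ofHom (algebraMap P' (P' ⊗[P] B)))) := by
    refine MorphismProperty.of_isPullback (P := @Smooth) (f' := m') (f := c') (g := q ∣_ V) ?_ hV
    refine IsPullback.of_right ?_ ?_ (isPullback_morphismRestrict q V).flip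
    · rw [IsOpenImmersion.lift_fac, IsOpenImmersion.lift_fac]; exact sq
    · rw [← cancel_mono V.ι, Category.assoc, morphismRestrict_ι, IsOpenImmersion.lift_fac_assoc,
        Category.assoc, IsOpenImmersion.lift_fac, sq.w]
  rw [HasRingHomProperty.Spec_iff (P := @Smooth)] at hsm
  exact RingHom.smooth_algebraMap.1 hsm

variable {k : Type u} [Field k] [CharZero k]

set_option maxHeartbeats 400000 in
/-- Generic fibres of a smooth variety over affine space are smooth. -/
theorem exists_poly_fibre_smooth {m : ℕ} (B : Type u) [CommRing B] [Algebra k B] [Algebra.Smooth k B]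
    (φ : MvPolynomial (Fin m) k →ₐ[k] B) :
    ∃ p : MvPolynomial (Fin m) k, p ≠ 0 ∧ ∀ c : Fin m → k, MvPolynomial.eval c p ≠ 0 →
      Algebra.Smooth k (B ⧸ (RingHom.ker (MvPolynomial.aeval (R := k) c)).map φ.toRingHom) := by
  letI : Algebra (MvPolynomial (Fin m) k) B := φ.toRingHom.toAlgebra
  haveI : IsScalarTower k (MvPolynomial (Fin m) k) B :=
    IsScalarTower.of_algebraMap_eq fun x => (φ.commutes x).symm
  let P := MvPolynomial (Fin m) k
  let qB : Spec (CommRingCat.of B) ⟶ Spec (CommRingCat.of k) := Spec.map (CommRingCat.ofHom (algebraMap k B))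
  let qP : Spec (CommRingCat.of P) ⟶ Spec (CommRingCat.of k) := Spec.map (CommRingCat.ofHom (algebraMap k P))
  let q : Spec (CommRingCat.of B) ⟶ Spec (CommRingCat.of P) := Spec.map (CommRingCat.ofHom (algebraMap P B))
  have hq : q ≫ qP = qB := by
    rw [← Spec.map_comp, ← CommRingCat.ofHom_comp, ← IsScalarTower.algebraMap_eq]
  haveI : Smooth qB := by
    rw [HasRingHomProperty.Spec_iff (P := @Smooth)]
    exact RingHom.smooth_algebraMap.2 inferInstance
  haveI : LocallyOfFiniteType qB := inferInstance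
  haveI : LocallyOfFiniteType qP := by
    rw [HasRingHomProperty.Spec_iff (P := @LocallyOfFiniteType)]
    exact RingHom.finiteType_algebraMap.2 inferInstance
  obtain ⟨V, ⟨y, hyV⟩, hV⟩ := GenSmooth5.exists_open_smooth_preimage qB qP q hq
  obtain ⟨_, ⟨p, rfl⟩, hyp, hpV⟩ :=
    PrimeSpectrum.isTopologicalBasis_basic_opens.exists_subset_of_mem_open hyV V.2
  refine ⟨p, fun h => ?_, fun c hc => ?_⟩
  · exact (show p ∉ (y : PrimeSpectrum P).asIdeal from hyp) (h ▸ Ideal.zero_mem _)
  let ε : P →ₐ[k] k := MvPolynomial.aeval c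
  have hε : Function.Surjective ε := fun a => ⟨MvPolynomial.C a, MvPolynomial.aeval_C _ _⟩
  let e : (P ⧸ RingHom.ker ε) ≃ₐ[k] k := Ideal.quotientKerAlgEquivOfSurjective hε
  haveI : Algebra.Smooth k (P ⧸ RingHom.ker ε) := Algebra.Smooth.of_equiv e.symm
  haveI := smooth_baseChange V hV (P ⧸ RingHom.ker ε) (by
    rintro _ ⟨z, rfl⟩
    refine hpV (show p ∉ Ideal.comap (algebraMap P (P ⧸ RingHom.ker ε))
      (z : PrimeSpectrum (P ⧸ RingHom.ker ε)).asIdeal from fun h => ?_)
    refine (z : PrimeSpectrum (P ⧸ RingHom.ker ε)).isPrime.ne_top (Ideal.eq_top_of_isUnit_mem _ h ?_)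
    have hne : e (algebraMap P (P ⧸ RingHom.ker ε) p) ≠ 0 := by
      show ε p ≠ 0
      exact hc
    have := (isUnit_iff_ne_zero.2 hne).map e.symm
    rwa [AlgEquiv.symm_apply_apply] at this)
  haveI : Algebra.Smooth k ((P ⧸ RingHom.ker ε) ⊗[P] B) := Algebra.Smooth.comp k (P ⧸ RingHom.ker ε) _
  let E := (Algebra.TensorProduct.quotIdealMapEquivQuotTensor B (RingHom.ker ε)).symm
  refine Algebra.Smooth.of_equiv (AlgEquiv.ofRingEquiv (f := E.toRingEquiv) fun a => ?_)
  have h1 : algebraMap k ((P ⧸ RingHom.ker ε) ⊗[P] B) a =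
      algebraMap (P ⧸ RingHom.ker ε) _ (algebraMap k (P ⧸ RingHom.ker ε) a) := rfl
  rw [h1]
  refine (E.commutes _).trans ?_
  show Ideal.Quotient.mk _ (algebraMap P B (algebraMap k P a)) = _
  rw [← IsScalarTower.algebraMap_apply]
  rfl

omit [CharZero k] in
open MvPolynomial in
/-- Two descriptions of a member of a linear system on an affine scheme. -/
theorem smooth_of_fibre {A : Type u} [CommRing A] [Algebra k A] {m : ℕ} (c : Fin m → k) (f : Fin m → A)
    {B : Type u} [CommRing B] [Algebra k B] (π : MvPolynomial (Fin m) A →ₐ[k] B)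
    (hπ : Function.Surjective π)
    (hker : RingHom.ker π.toRingHom = Ideal.span {∑ i, C (f i) * X i}) (K : Ideal B)
    (hXK : ∀ i, π (X i) - algebraMap k B (c i) ∈ K)
    (hK : K ≤ (Ideal.span (Set.range fun i => π (X i) - algebraMap k B (c i))))
    [Algebra.Smooth k (B ⧸ K)] :
    Algebra.Smooth k (A ⧸ Ideal.span {∑ i, algebraMap k A (c i) * f i}) := by
  let J : Ideal A := Ideal.span {∑ i, algebraMap k A (c i) * f i}
  let ev₀ : MvPolynomial (Fin m) A →ₐ[k] A ⧸ J :=
    (Ideal.Quotient.mkₐ k J).comp ((aeval (R := A) fun i => algebraMap k A (c i)).restrictScalars k)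
  have hev₀ : ∀ x, π x = 0 → ev₀ x = 0 := fun x hx => by
    have hx' : x ∈ RingHom.ker π.toRingHom := hx
    rw [hker] at hx'
    obtain ⟨y, rfl⟩ := Ideal.mem_span_singleton'.1 hx'
    rw [map_mul]
    refine mul_eq_zero_of_right _ ((Ideal.Quotient.eq_zero_iff_mem).2 (Ideal.mem_span_singleton'.2 ⟨1, ?_⟩))
    simp [mul_comm]
  let ev : B →ₐ[k] A ⧸ J := AlgHom.liftOfSurjective π hπ ev₀ hev₀
  have hev : ∀ x, ev (π x) = ev₀ x := fun x => by simp [ev]
  let fw : (B ⧸ K) →ₐ[k] A ⧸ J := Ideal.Quotient.liftₐ K ev (fun x hx => by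
    have hle : Ideal.span (Set.range fun i => π (X i) - algebraMap k B (c i)) ≤ RingHom.ker ev := by
      rw [Ideal.span_le]
      rintro _ ⟨i, rfl⟩
      show ev (π (X i) - algebraMap k B (c i)) = 0
      rw [map_sub, hev, ev.commutes, sub_eq_zero]
      exact congrArg (Ideal.Quotient.mk J) (aeval_X _ i)
    exact hle (hK hx))
  let ιA : A →ₐ[k] B ⧸ K := (Ideal.Quotient.mkₐ k K).comp (π.comp (IsScalarTower.toAlgHom k A _))
  have hXi : ∀ i, Ideal.Quotient.mk K (π (X i)) = algebraMap k (B ⧸ K) (c i) := fun i => by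
    rw [IsScalarTower.algebraMap_apply k B (B ⧸ K), Ideal.Quotient.algebraMap_eq, Ideal.Quotient.eq]
    exact hXK i
  let bw : A ⧸ J →ₐ[k] B ⧸ K := Ideal.Quotient.liftₐ J ιA (by
    intro x hx
    obtain ⟨y, rfl⟩ := Ideal.mem_span_singleton'.1 hx
    rw [map_mul]
    refine mul_eq_zero_of_right _ ?_
    have h0 : Ideal.Quotient.mk K (π (∑ i, C (f i) * X i)) = 0 := by
      rw [show π (∑ i, C (f i) * X i) = 0 from (hker.ge (Ideal.mem_span_singleton_self _) :), map_zero]
    rw [← h0, map_sum, map_sum, map_sum]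
    refine Finset.sum_congr rfl fun i _ => ?_
    rw [map_mul, ιA.commutes, map_mul, map_mul, hXi, mul_comm]
    rfl)
  refine Algebra.Smooth.of_equiv (AlgEquiv.ofAlgHom fw bw ?_ ?_)
  · refine Ideal.Quotient.algHom_ext k (AlgHom.ext fun a => ?_)
    show fw (ιA a) = Ideal.Quotient.mk J a
    simp [fw, ιA, hev, ev₀]
  · refine Ideal.Quotient.algHom_ext k (AlgHom.ext fun b => ?_)
    obtain ⟨r, rfl⟩ := hπ b
    show bw (ev (π r)) = Ideal.Quotient.mk K (π r)
    rw [hev]
    induction r using MvPolynomial.induction_on with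
    | C a => simp [ev₀, bw, ιA]
    | add x y hx hy => simp only [map_add, hx, hy]
    | mul_X x i hx =>
      simp only [map_mul, hx, hXi]
      congr 1
      rw [show ev₀ (X i) = algebraMap k (A ⧸ J) (c i) from congrArg (Ideal.Quotient.mk J) (aeval_X _ i),
        AlgHom.commutes]

omit [CharZero k] in
open MvPolynomial in
theorem ker_aeval_le {m : ℕ} (c : Fin m → k) :
    RingHom.ker (aeval (R := k) c) ≤ Ideal.span (Set.range fun i => X i - C (c i)) := by
  intro p hp
  suffices h : p - C (aeval c p) ∈ Ideal.span (Set.range fun i => X i - C (c i)) by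
    rwa [RingHom.mem_ker.1 hp, map_zero, sub_zero] at h
  clear hp
  induction p using MvPolynomial.induction_on with
  | C a => simp
  | add x y hx hy =>
    rw [map_add, map_add, add_sub_add_comm]
    exact add_mem hx hy
  | mul_X x i hx =>
    rw [map_mul, map_mul, aeval_X, show x * X i - C (aeval c x) * C (c i) =
      (x - C (aeval c x)) * X i + C (aeval c x) * (X i - C (c i)) by ring]
    exact add_mem (Ideal.mul_mem_right _ _ hx) (Ideal.mul_mem_left _ _ (Ideal.subset_span ⟨i, rfl⟩))

set_option maxHeartbeats 400000 in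
open MvPolynomial in
/-- Generic members of a base point free linear system on a smooth affine variety are smooth. -/
theorem exists_poly_smooth {A : Type u} [CommRing A] [Algebra k A] [Algebra.Smooth k A] (m : ℕ)
    (f : Fin m → A) (hf : Ideal.span (Set.range f) = ⊤) :
    ∃ p : MvPolynomial (Fin m) k, p ≠ 0 ∧ ∀ c : Fin m → k, eval c p ≠ 0 →
      Algebra.Smooth k (A ⧸ Ideal.span {∑ i, algebraMap k A (c i) * f i}) := by
  let I : Ideal (MvPolynomial (Fin m) A) := Ideal.span {∑ i, C (f i) * X i}
  haveI : Algebra.Smooth A (MvPolynomial (Fin m) A ⧸ I) := smooth_universal f hf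
  haveI : Algebra.Smooth k (MvPolynomial (Fin m) A ⧸ I) := Algebra.Smooth.comp k A (MvPolynomial (Fin m) A ⧸ I)
  let φ : MvPolynomial (Fin m) k →ₐ[k] MvPolynomial (Fin m) A ⧸ I :=
    aeval (R := k) (fun i => Ideal.Quotient.mk I (X i : MvPolynomial (Fin m) A))
  obtain ⟨p, hp0, hp⟩ := exists_poly_fibre_smooth (k := k) (m := m) (MvPolynomial (Fin m) A ⧸ I) φ
  refine ⟨p, hp0, fun c hc => ?_⟩
  haveI := hp c hc
  have hφ : ∀ i, φ (X i - C (c i)) = Ideal.Quotient.mk I (X i) - algebraMap k _ (c i) := fun i => by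
    rw [map_sub]
    congr 1
    · exact aeval_X _ i
    · exact φ.commutes (c i)
  refine smooth_of_fibre c f (Ideal.Quotient.mkₐ k I) Ideal.Quotient.mk_surjective
    (Ideal.mk_ker) ((RingHom.ker (MvPolynomial.aeval (R := k) c)).map φ.toRingHom) (fun i => ?_) ?_
  · exact (hφ i) ▸ Ideal.mem_map_of_mem φ.toRingHom (by simp)
  · refine (Ideal.map_mono (ker_aeval_le c)).trans ?_
    rw [Ideal.map_span, Ideal.span_le]
    rintro _ ⟨_, ⟨i, rfl⟩, rfl⟩
    exact Ideal.subset_span ⟨i, (hφ i).symm⟩

end Groth.Agent.Bertini5
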