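import Groth.Agent.Bertini5.Bad
import Groth.Agent.BertiniAff.Quot
import Groth.Agent.SmoothDim.Basic
import Mathlib.RingTheory.Jacobson.Ring
import Mathlib.RingTheory.RingHom.Smooth
import Mathlib.RingTheory.RingHom.LocallyStandardSmooth

/-!
# Bertini for linear systems separating tangent vectors
-/

set_option autoImplicit false
set_option linter.style.haveILetI false
set_option backward.isDefEq.respectTransparency false
set_option backward.isDefEq.respectTransparency.types false

universe u

open TensorProduct KaehlerDifferential Matrix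

namespace Groth.Agent.Bertini5

variable {k : Type u} [Field k]

theorem bijective_residue [IsAlgClosed k] {B : Type u} [CommRing B] [Algebra k B] [Algebra.FiniteType k B]
    (M : Ideal B) [M.IsMaximal] : Function.Bijective (algebraMap k (B ⧸ M)) := by
  letI := Ideal.Quotient.field M
  haveI : Module.Finite k (B ⧸ M) := finite_of_finite_type_of_isJacobsonRing k _
  exact IsAlgClosed.algebraMap_bijective_of_isIntegral

theorem derivation_sq_mem {B : Type u} [CommRing B] [Algebra k B] (M : Ideal B) (φ : Ω[B⁄k] →ₗ[B] B) {b : B}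
    (hb : b ∈ M ^ 2) : φ (D k B b) ∈ M := by
  rw [pow_two] at hb
  induction hb using Submodule.mul_induction_on' with
  | mem_mul_mem x hx y hy =>
    rw [Derivation.leibniz, map_add, map_smul, map_smul, smul_eq_mul, smul_eq_mul]
    exact add_mem (Ideal.mul_mem_right _ _ hx) (Ideal.mul_mem_right _ _ hy)
  | add x _ y _ hx hy =>
    rw [map_add, map_add]
    exact add_mem hx hy

/-- On a standard smooth chart the bad parameters satisfy a polynomial equation. -/
theorem exists_bad_jets [IsAlgClosed k] {B : Type u} [CommRing B] [Algebra k B] [Nontrivial B] (r : ℕ)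
    [Algebra.IsStandardSmoothOfRelativeDimension r k B] (m : ℕ) (a : Fin m → B) (a₀ : B)
    (hjet : ∀ M : Ideal B, M.IsMaximal → ∀ b : B, ∃ c : Fin m → k, (∑ i, algebraMap k B (c i) * a i) - b ∈ M ^ 2) :
    ∃ g : MvPolynomial (Fin m) k, g ≠ 0 ∧ ∀ c : Fin m → k, MvPolynomial.eval c g ≠ 0 →
      ∀ v : Ideal B, v.IsPrime → a₀ + ∑ i, algebraMap k B (c i) * a i ∈ v →
        ∃ φ : Ω[B⁄k] →ₗ[B] B, φ (D k B (a₀ + ∑ i, algebraMap k B (c i) * a i)) ∉ v := by
  haveI : Algebra.IsStandardSmooth k B := Algebra.IsStandardSmoothOfRelativeDimension.isStandardSmooth r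
  haveI : Algebra.FiniteType k B := inferInstance
  let β : Module.Basis (Fin r) B Ω[B⁄k] := Module.finBasisOfFinrankEq B _ (BertiniAff.finrank_kaehler r)
  let σ := ULift.{u} (Option (Fin r))
  let τ := ULift.{u} (Fin m)
  let row : σ → B → B := fun j b => Option.elim j.down b (fun l => β.repr (D k B b) l)
  have hrow : ∀ (j : σ) (b b' : B), row j (b + b') = row j b + row j b' := by
    rintro ⟨_ | l⟩ b b'
    · rfl
    · simp [row]
  have hrowk : ∀ (j : σ) (t : k) (b : B), row j (algebraMap k B t * b) = algebraMap k B t * row j b := by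
    rintro ⟨_ | l⟩ t b
    · rfl
    · show β.repr (D k B (algebraMap k B t * b)) l = algebraMap k B t * β.repr (D k B b) l
      rw [Derivation.leibniz, Derivation.map_algebraMap, smul_zero, add_zero, map_smul]
      rfl
  have hrows : ∀ (j : σ) (t : Finset (Fin m)) (F : Fin m → B), row j (∑ i ∈ t, F i) = ∑ i ∈ t, row j (F i) :=
    fun j t F => map_sum (AddMonoidHom.mk' (row j) (hrow j)) F t
  have hrow2 : ∀ (M : Ideal B) (j : σ) {b : B}, b ∈ M ^ 2 → row j b ∈ M := by
    rintro M ⟨_ | l⟩ b hb
    · exact Ideal.pow_le_self two_ne_zero hb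
    · exact derivation_sq_mem M (β.coord l) hb
  let M : Matrix σ τ B := fun j i => row j (a i.down)
  have hMv : ∀ (c : τ → B) (j : σ), (M *ᵥ c) j = ∑ i, row j (a i) * c ⟨i⟩ := fun c j => by
    simp only [Matrix.mulVec, dotProduct, M]
    exact (Equiv.ulift.symm.sum_comp (fun i : τ => row j (a i.down) * c i)).symm
  -- the values and differentials of the `a i` generate at every closed point
  have hsurj : Function.Surjective M.mulVec := by
    let R := LinearMap.range M.mulVecLin
    suffices R = ⊤ by
      intro y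
      have : y ∈ R := this ▸ trivial
      exact this
    classical
    by_contra hR
    obtain ⟨P, hP, hRP⟩ : ∃ P : Ideal B, P.IsMaximal ∧ ∀ s ∉ P, ∃ y : σ → B, s • y ∉ R := by
      by_contra! hc
      refine hR (eq_top_iff.2 fun y _ => ?_)
      by_contra hy
      obtain ⟨P, hP, hle⟩ := Ideal.exists_le_maximal (R.colon {y}) (fun h => hy (by
        have h1 := Submodule.mem_colon_singleton.1 ((Ideal.eq_top_iff_one _).1 h)
        rwa [one_smul] at h1))
      obtain ⟨s, hs, hall⟩ := hc P hP
      exact hs (hle (Submodule.mem_colon_singleton.2 (hall y)))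
    haveI := hP
    -- surjectivity modulo `P`
    have hmod : ∀ y : σ → B, ∃ c : τ → B, ∀ j, (M *ᵥ c) j - y j ∈ P := by
      intro y
      -- an element with prescribed value and differential
      obtain ⟨b, hb⟩ : ∃ b : B, ∀ j, row j b - y j ∈ P := by
        have hsp : Submodule.span B (Set.range (D k B)) = ⊤ := KaehlerDifferential.span_range_derivation k B
        have key : ∀ ω : Ω[B⁄k], ∃ b : B, b ∈ P ∧ ∀ l, β.repr (D k B b) l - β.repr ω l ∈ P := by
          intro ω
          have hω : ω ∈ Submodule.span B (Set.range (D k B)) := hsp ▸ trivial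
          induction hω using Submodule.span_induction with
          | mem _ h =>
            obtain ⟨x, rfl⟩ := h
            obtain ⟨t, ht⟩ := (bijective_residue (k := k) P).2 (Ideal.Quotient.mk P x)
            refine ⟨x - algebraMap k B t, ?_, fun l => ?_⟩
            · rw [← Ideal.Quotient.eq_zero_iff_mem, map_sub, ← ht, sub_eq_zero]; rfl
            · simp
          | zero => exact ⟨0, zero_mem _, fun l => by simp⟩
          | add _ _ _ _ h h' =>
            obtain ⟨b, hb, hb'⟩ := h
            obtain ⟨c, hc, hc'⟩ := h'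
            refine ⟨b + c, add_mem hb hc, fun l => ?_⟩
            rw [map_add, map_add, map_add, Finsupp.add_apply, Finsupp.add_apply, add_sub_add_comm]
            exact add_mem (hb' l) (hc' l)
          | smul x _ _ h =>
            obtain ⟨b, hb, hb'⟩ := h
            obtain ⟨t, ht⟩ := (bijective_residue (k := k) P).2 (Ideal.Quotient.mk P x)
            refine ⟨algebraMap k B t * b, Ideal.mul_mem_left _ _ hb, fun l => ?_⟩
            have hx : algebraMap k B t - x ∈ P := by
              rw [← Ideal.Quotient.eq_zero_iff_mem, map_sub, sub_eq_zero, ← ht]; rfl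
            rw [Derivation.leibniz, Derivation.map_algebraMap, smul_zero, add_zero, map_smul, map_smul,
              Finsupp.smul_apply, Finsupp.smul_apply, smul_eq_mul, smul_eq_mul,
              show ∀ p q : B, algebraMap k B t * p - x * q = algebraMap k B t * (p - q) + (algebraMap k B t - x) * q
                from fun p q => by ring]
            exact add_mem (Ideal.mul_mem_left _ _ (hb' l)) (Ideal.mul_mem_right _ _ hx)
        obtain ⟨b, hb, hb'⟩ := key (∑ l, y ⟨some l⟩ • β l)
        obtain ⟨t, ht⟩ := (bijective_residue (k := k) P).2 (Ideal.Quotient.mk P (y ⟨none⟩))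
        refine ⟨algebraMap k B t + b, ?_⟩
        rintro ⟨_ | l⟩
        · show algebraMap k B t + b - y ⟨none⟩ ∈ P
          rw [← Ideal.Quotient.eq_zero_iff_mem, map_sub, map_add, Ideal.Quotient.eq_zero_iff_mem.2 hb, add_zero,
            ← ht, sub_eq_zero]
          rfl
        · have := hb' l
          rw [Module.Basis.repr_sum_self] at this
          simpa [row] using this
      obtain ⟨c, hc⟩ := hjet P hP b
      refine ⟨fun i => algebraMap k B (c i.down), fun j => ?_⟩
      rw [hMv, ← sub_add_sub_cancel _ (row j b)]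
      refine add_mem ?_ (hb j)
      have h3 := hrow2 P j hc
      have h4 : row j (∑ i, algebraMap k B (c i) * a i - b) + row j b =
          ∑ i, row j (a i) * algebraMap k B (c i) := by
        rw [← hrow, sub_add_cancel, hrows]
        exact Finset.sum_congr rfl fun i _ => by rw [hrowk, mul_comm]
      rw [← h4, add_sub_cancel_right]
      exact h3
    -- Nakayama
    let Q := (σ → B) ⧸ R
    have hPQ : P • (⊤ : Submodule B Q) = ⊤ := by
      refine eq_top_iff.2 fun q _ => ?_
      obtain ⟨y, rfl⟩ := Submodule.Quotient.mk_surjective R q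
      obtain ⟨c, hc⟩ := hmod y
      have hy : Submodule.Quotient.mk (p := R) y =
          ∑ j, (y j - (M *ᵥ c) j) • Submodule.Quotient.mk (p := R) (Pi.single j 1) := by
        have h5 : ∑ j, (y j - (M *ᵥ c) j) • (Pi.single j 1 : σ → B) = y - M *ᵥ c := by
          rw [pi_eq_sum_univ' (y - M *ᵥ c)]
          rfl
        have h6 := congrArg R.mkQ h5
        simp only [map_sum, map_smul, map_sub, Submodule.mkQ_apply] at h6
        rw [h6, (Submodule.Quotient.mk_eq_zero R (x := M *ᵥ c)).2 ⟨c, rfl⟩, sub_zero]
      rw [hy]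
      exact Submodule.sum_mem _ fun j _ => Submodule.smul_mem_smul
        (by rw [← neg_sub]; exact P.neg_mem (hc j)) Submodule.mem_top
    obtain ⟨s, hs1, hs⟩ := Submodule.exists_sub_one_mem_and_smul_eq_zero_of_fg_of_le_smul P (⊤ : Submodule B Q)
      Module.Finite.fg_top hPQ.ge
    obtain ⟨y, hy⟩ := hRP s (fun hsP => hP.ne_top ((Ideal.eq_top_iff_one _).2 (by
      have := P.sub_mem hsP hs1
      rwa [sub_sub_cancel] at this)))
    refine hy ((Submodule.Quotient.mk_eq_zero R).1 ?_)
    rw [Submodule.Quotient.mk_smul]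
    exact hs _ trivial
  classical
  obtain ⟨N, hN⟩ := Matrix.mulVec_surjective_iff_exists_right_inverse.1 hsurj
  obtain ⟨g, hg0, hg⟩ := exists_ne_zero_eval_affine (k := k) r (SmoothDim.ringKrullDim_eq k B r).le σ τ
    (by simp [σ]) M N hN (fun j => row j a₀)
  refine ⟨MvPolynomial.renameEquiv k Equiv.ulift g, (map_ne_zero_iff _ (AlgEquiv.injective _)).2 hg0,
    fun c hc v hv hmem => ?_⟩
  by_contra! hall
  refine hc ?_
  rw [MvPolynomial.renameEquiv_apply, MvPolynomial.eval_rename]
  set h := a₀ + ∑ i, algebraMap k B (c i) * a i with hh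
  have hvec : ∀ j, (M *ᵥ fun i => algebraMap k B (c i.down)) j + row j a₀ ∈ v := by
    intro j
    have : (M *ᵥ fun i => algebraMap k B (c i.down)) j + row j a₀ = row j h := by
      rw [hMv, hh, hrow, hrows, add_comm]
      exact congrArg _ (Finset.sum_congr rfl fun i _ => by rw [hrowk, mul_comm])
    rw [this]
    obtain ⟨_ | l⟩ := j
    · exact hmem
    · exact hall (β.coord l)
  let ev : B →ₐ[k] v.ResidueField := IsScalarTower.toAlgHom k B _
  refine hg (c ∘ Equiv.ulift) v.ResidueField ev (_root_.funext fun j => ?_)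
  have h3 : ev.toRingHom ((M *ᵥ fun i => algebraMap k B (c i.down)) j + row j a₀) = 0 :=
    Ideal.algebraMap_residueField_eq_zero.2 (hvec j)
  rw [map_add, RingHom.map_mulVec] at h3
  refine Eq.trans ?_ h3
  rw [Pi.add_apply]
  refine congrArg₂ (· + ·) (congrArg (fun w => (M.map ev *ᵥ w) j) (_root_.funext fun i => ?_)) rfl
  exact (ev.commutes _).symm

/-- A hypersurface in a smooth algebra whose differential vanishes nowhere on it is smooth. -/
theorem smooth_quotient {B : Type u} [CommRing B] [Algebra k B] [Algebra.Smooth k B] (h : B)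
    (H : ∀ v : Ideal B, v.IsPrime → h ∈ v → ∃ φ : Ω[B⁄k] →ₗ[B] B, φ (D k B h) ∉ v) :
    Algebra.Smooth k (B ⧸ Ideal.span {h}) := by
  obtain ⟨b, φ, hφ⟩ : ∃ (b : B) (φ : Ω[B⁄k] →ₗ[B] B), φ (D k B h) = 1 - b * h := by
    let J : Ideal B := Ideal.span {h} ⊔ Submodule.map (LinearMap.applyₗ (D k B h)) (⊤ : Submodule B (Ω[B⁄k] →ₗ[B] B))
    have hJ : J = ⊤ := by
      by_contra hne
      obtain ⟨v, hv, hle⟩ := Ideal.exists_le_maximal J hne
      obtain ⟨φ, hφ⟩ := H v hv.isPrime (hle (Submodule.mem_sup_left (Ideal.mem_span_singleton_self h)))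
      exact hφ (hle (Submodule.mem_sup_right ⟨φ, trivial, rfl⟩))
    obtain ⟨x, hx, y, ⟨φ, -, rfl⟩, hxy⟩ := Submodule.mem_sup.1 ((Ideal.eq_top_iff_one J).1 hJ)
    obtain ⟨b, rfl⟩ := Ideal.mem_span_singleton'.1 hx
    exact ⟨b, φ, eq_sub_of_add_eq' hxy⟩
  let u := 1 - b * h
  let B' := Localization.Away u
  haveI : Algebra.FormallyEtale B B' := Algebra.FormallyEtale.of_isLocalization (Submonoid.powers u)
  let φ₀ : Ω[B'⁄k] →ₗ[B'] B' :=
    (KaehlerDifferential.isBaseChange_of_formallyEtale k B B').lift ((Algebra.linearMap B B').comp φ)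
  let iu := (IsLocalization.Away.algebraMap_isUnit (S := B') u).unit
  have hφ₀ : φ₀ (D k B' (algebraMap B B' h)) = algebraMap B B' u := by
    have e := IsBaseChange.lift_eq (KaehlerDifferential.isBaseChange_of_formallyEtale k B B')
      ((Algebra.linearMap B B').comp φ) (D k B h)
    rw [KaehlerDifferential.map_D] at e
    exact e.trans (congrArg (algebraMap B B') hφ)
  have hone : ((↑iu⁻¹ : B') • φ₀) (D k B' (algebraMap B B' h)) = 1 := by
    rw [LinearMap.smul_apply, hφ₀, smul_eq_mul]
    exact iu.inv_mul
  let I : Ideal B := Ideal.span {h}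
  have hI : I.map (algebraMap B B') = Ideal.span {algebraMap B B' h} := by
    rw [Ideal.map_span, Set.image_singleton]
  haveI : Algebra.Smooth B B' :=
    { formallySmooth := inferInstance
      finitePresentation := IsLocalization.Away.finitePresentation u }
  haveI : Algebra.Smooth k B' := Algebra.Smooth.comp k B B'
  haveI : Algebra.FormallySmooth k (B' ⧸ Ideal.span {algebraMap B B' h}) :=
    BertiniAff.formallySmooth_quotient _ _ hone
  haveI : Algebra.FinitePresentation k (B' ⧸ Ideal.span {algebraMap B B' h}) :=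
    Algebra.FinitePresentation.quotient ⟨{algebraMap B B' h}, by simp⟩
  haveI hsm : Algebra.Smooth k (B' ⧸ Ideal.span {algebraMap B B' h}) := {}
  rw [← hI] at hsm
  haveI : IsLocalization (Algebra.algebraMapSubmonoid (B ⧸ I) (Submonoid.powers u)) (B' ⧸ I.map (algebraMap B B')) :=
    inferInstance
  have hone' : Algebra.algebraMapSubmonoid (B ⧸ I) (Submonoid.powers u) ≤ IsUnit.submonoid (B ⧸ I) := by
    rintro _ ⟨_, ⟨n, rfl⟩, rfl⟩
    have : Ideal.Quotient.mk I u = 1 := by
      rw [show u = 1 - b * h from rfl, map_sub, map_one,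
        Ideal.Quotient.eq_zero_iff_mem.2 (Ideal.mul_mem_left _ b (Ideal.mem_span_singleton_self h)), sub_zero]
    show IsUnit (Ideal.Quotient.mk I (u ^ n))
    rw [map_pow, this, one_pow]
    exact isUnit_one
  let e : (B ⧸ I) ≃ₐ[B ⧸ I] (B' ⧸ I.map (algebraMap B B')) := IsLocalization.atUnits (B ⧸ I) _ hone'
  haveI : IsScalarTower k (B ⧸ I) (B' ⧸ I.map (algebraMap B B')) := IsScalarTower.of_algebraMap_eq fun t => by
    show Ideal.Quotient.mk _ (algebraMap k B' t) = Ideal.Quotient.mk _ (algebraMap B B' (algebraMap k B t))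
    rw [← IsScalarTower.algebraMap_apply k B B']
  exact Algebra.Smooth.of_equiv (e.restrictScalars k).symm

end Groth.Agent.Bertini5
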