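import Groth.Agent.Bertini5.Alg
import Groth.Agent.ZeroSchX.Basic
import Groth.Agent.InvX.Tensor
import Groth.Agent.Lib.CurveDualPrep
import Groth.Agent.SmoothReg.Scheme
import Groth.Prelude.Def_Formal

/-!
# Bertini for base point free linear systems in characteristic zero
-/

set_option autoImplicit false
set_option linter.style.haveILetI false
set_option backward.isDefEq.respectTransparency false
set_option backward.isDefEq.respectTransparency.types false

universe u

open CategoryTheory CategoryTheory.Limits AlgebraicGeometry TopologicalSpace Opposite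

namespace Groth.Agent.Bertini5

variable {k : Type u} [Field k] {X : Scheme.{u}} [X.Over (Spec (CommRingCat.of k))] {L : X.Modules}

/-- The value of a combination of sections. -/
theorem sv_sum {ι : Type} (t : Finset ι) (c : ι → k) (s : ι → (Coh.structureModule X ⟶ L)) (U : X.Opens) :
    ZeroSchX.sv (∑ i ∈ t, Formal.smulMod k (Coh.structureModule X) (c i) ≫ s i) U =
      ∑ i ∈ t, (show Γ(X, U) from Coh.resTop X (op U) (Coh.toGlobal (X ↘ Spec (CommRingCat.of k)) (c i))) •
        ZeroSchX.sv (s i) U := by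
  classical
  induction t using Finset.induction with
  | empty => rw [Finset.sum_empty, Finset.sum_empty]; rfl
  | insert a t ha ih =>
    rw [Finset.sum_insert ha, Finset.sum_insert ha, ← ih]
    refine Eq.trans (b := ZeroSchX.sv (Formal.smulMod k (Coh.structureModule X) (c a) ≫ s a) U +
      ZeroSchX.sv (∑ i ∈ t, Formal.smulMod k (Coh.structureModule X) (c i) ≫ s i) U) rfl ?_
    congr 1
    exact Scheme.Modules.Hom.app_smul (M := Coh.structureModule X) (s a)
      (show Γ(X, U) from Coh.resTop X (op U) (Coh.toGlobal (X ↘ Spec (CommRingCat.of k)) (c a))) (1 : Γ(X, U))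

/-- Bertini near an affine open with a frame. -/
theorem exists_poly_chart [CharZero k] [Smooth (X ↘ Spec (CommRingCat.of k))] (hL : PicF.IsInvertible L) (m : ℕ)
    (s : Fin m → (Coh.structureModule X ⟶ L)) (hgen : ⨆ i, PicF2.zeroScheme L (s i) = ⊤)
    (U : X.affineOpens) (e : Γ(L, U.1)) (he : InvX.IsFrame e) :
    ∃ p : MvPolynomial (Fin m) k, p ≠ 0 ∧ ∀ c : Fin m → k, MvPolynomial.eval c p ≠ 0 →
      Smooth ((PicF2.zeroScheme L (∑ i, Formal.smulMod k (Coh.structureModule X) (c i) ≫ s i)).subschemeCover.f U ≫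
        (PicF2.zeroScheme L (∑ i, Formal.smulMod k (Coh.structureModule X) (c i) ≫ s i)).subschemeι ≫
          (X ↘ Spec (CommRingCat.of k))) := by
  let f := X ↘ Spec (CommRingCat.of k)
  letI := (SmoothReg.affMap f U.1).toAlgebra
  haveI : Algebra.Smooth k Γ(X, U.1) := by
    refine RingHom.smooth_algebraMap.1 ?_
    rw [RingHom.algebraMap_toAlgebra]
    exact RingHom.Smooth.respectsIso.2 _ (Scheme.ΓSpecIso (CommRingCat.of k)).symm.commRingCatIsoToRingEquiv
      (HasRingHomProperty.appLE @Smooth f inferInstance ⟨⊤, isAffineOpen_top _⟩ U (by simp))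
  have hcoord : ∀ i, ∃ a : Γ(X, U.1), ZeroSchX.sv (s i) U.1 = a • e := fun i => by
    obtain ⟨a, ha⟩ := (he U.1 le_rfl).2 (ZeroSchX.sv (s i) U.1)
    exact ⟨a, ha.symm.trans (by simp [AModX.res])⟩
  choose a ha using hcoord
  have hspan : Ideal.span (Set.range a) = ⊤ := by
    have h1 := congrArg (fun J : X.IdealSheafData => J.ideal U) hgen
    simp only [Scheme.IdealSheafData.ideal_iSup, iSup_apply, Scheme.IdealSheafData.ideal_top, Pi.top_apply] at h1
    rw [← top_le_iff, ← h1]
    refine iSup_le fun i => ?_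
    rw [ZeroSchX.ideal_zeroScheme hL, ZeroSchX.zeroIdealOn_eq_span (s i) he (ha i)]
    exact Ideal.span_mono (Set.singleton_subset_iff.2 ⟨i, rfl⟩)
  obtain ⟨p, hp0, hp⟩ := exists_poly_smooth (k := k) m a hspan
  refine ⟨p, hp0, fun c hc => ?_⟩
  set σ := ∑ i, Formal.smulMod k (Coh.structureModule X) (c i) ≫ s i with hσ
  have hsv : ZeroSchX.sv σ U.1 = (∑ i, algebraMap k Γ(X, U.1) (c i) * a i) • e := by
    rw [hσ, sv_sum, Finset.sum_smul]
    refine Finset.sum_congr rfl fun i _ => ?_
    rw [ha i, smul_smul]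
    congr 2
  have hI : (PicF2.zeroScheme L σ).ideal U = Ideal.span {∑ i, algebraMap k Γ(X, U.1) (c i) * a i} := by
    rw [ZeroSchX.ideal_zeroScheme hL, ZeroSchX.zeroIdealOn_eq_span σ he hsv]
  haveI : Algebra.Smooth k (Γ(X, U.1) ⧸ (PicF2.zeroScheme L σ).ideal U) := hI ▸ hp c hc
  rw [← Category.assoc, Scheme.IdealSheafData.subschemeCover_map_subschemeι]
  show Smooth (((PicF2.zeroScheme L σ).glueDataObjι U ≫ U.1.ι) ≫ f)
  rw [Scheme.IdealSheafData.glueDataObjι_ι, Category.assoc,
    ← IsAffineOpen.SpecMap_appLE_fromSpec f (isAffineOpen_top _) U.2 (by simp), IsAffineOpen.fromSpec_top,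
    Scheme.isoSpec_Spec_inv, ← Spec.map_comp, ← Spec.map_comp, HasRingHomProperty.Spec_iff (P := @Smooth)]
  exact RingHom.smooth_algebraMap.2 (inferInstanceAs (Algebra.Smooth k (Γ(X, U.1) ⧸ (PicF2.zeroScheme L σ).ideal U)))

theorem exists_poly [CharZero k] [Infinite k] [Smooth (X ↘ Spec (CommRingCat.of k))]
    [QuasiCompact (X ↘ Spec (CommRingCat.of k))] (hL : PicF.IsInvertible L) (m : ℕ)
    (s : Fin m → (Coh.structureModule X ⟶ L)) (hgen : ⨆ i, PicF2.zeroScheme L (s i) = ⊤) :
    ∃ p : MvPolynomial (Fin m) k, p ≠ 0 ∧ ∀ c : Fin m → k, MvPolynomial.eval c p ≠ 0 →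
      Smooth ((PicF2.zeroScheme L (∑ i, Formal.smulMod k (Coh.structureModule X) (c i) ≫ s i)).subschemeι ≫
        (X ↘ Spec (CommRingCat.of k))) := by
  haveI : CompactSpace X := QuasiCompact.compactSpace_of_compactSpace (X ↘ Spec (CommRingCat.of k))
  have hchart : ∀ x : X, ∃ (U : X.affineOpens) (e : Γ(L, U.1)), x ∈ U.1 ∧ InvX.IsFrame e := fun x => by
    obtain ⟨U, hx, e, he⟩ := InvX.exists_frame hL x
    obtain ⟨V, hV, hxV, hVU⟩ := exists_isAffineOpen_mem_and_subset hx
    exact ⟨⟨V, hV⟩, AModX.res L hVU e, hxV, he.res hVU⟩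
  choose U e hxU he using hchart
  obtain ⟨t, ht⟩ := isCompact_univ.elim_finite_subcover (fun x : X => ((U x).1 : Set X))
    (fun x => (U x).1.2) (fun x _ => Set.mem_iUnion.2 ⟨x, hxU x⟩)
  choose p hp0 hp using fun x => exists_poly_chart (k := k) hL m s hgen (U x) (e x) (he x)
  refine ⟨∏ x ∈ t, p x, Finset.prod_ne_zero_iff.2 fun x _ => hp0 x, fun c hc => ?_⟩
  rw [map_prod, Finset.prod_ne_zero_iff] at hc
  set Z := PicF2.zeroScheme L (∑ i, Formal.smulMod k (Coh.structureModule X) (c i) ≫ s i)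
  haveI : LocallyOfFinitePresentation (Z.subschemeι ≫ X ↘ Spec (CommRingCat.of k)) :=
    LocallyOfFinitePresentation.iff_locallyOfFiniteType.2 inferInstance
  rw [← Scheme.Hom.smoothLocus_eq_top_iff, eq_top_iff]
  intro z _
  obtain ⟨x, hxt, hzx⟩ : ∃ x ∈ t, Z.subschemeι z ∈ (U x).1 := by
    simpa using ht (Set.mem_univ (Z.subschemeι z))
  obtain ⟨y, rfl⟩ : z ∈ (Z.subschemeCover.f (U x)).opensRange := by
    rw [Scheme.IdealSheafData.opensRange_subschemeCover_map]; exact hzx
  haveI := hp x c (hc x hxt)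
  rw [← Scheme.Hom.mem_preimage]
  rw [Scheme.Hom.preimage_smoothLocus_eq, Scheme.Hom.smoothLocus_eq_top]
  trivial

end Groth.Agent.Bertini5
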