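import Groth.Agent.Bertini5.Jets
import Groth.Agent.Bertini5.Local

/-!
# Bertini for linear systems separating tangent vectors, globally
-/

set_option autoImplicit false
set_option linter.style.haveILetI false
set_option backward.isDefEq.respectTransparency false
set_option backward.isDefEq.respectTransparency.types false

universe u

open CategoryTheory CategoryTheory.Limits AlgebraicGeometry TopologicalSpace Opposite KaehlerDifferential

namespace Groth.Agent.Bertini5

theorem mem_pow_of_mul_mem {A : Type*} [CommRing A] (M : Ideal A) [hM : M.IsMaximal] {s x : A} (n : ℕ)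
    (hs : s ∉ M) (h : s * x ∈ M ^ n) : x ∈ M ^ n := by
  have htop : M ^ n ⊔ Ideal.span {s} = ⊤ := by
    refine Ideal.pow_sup_eq_top (hM.out.2 _ (lt_of_le_of_ne le_sup_left fun e => hs ?_))
    rw [e]
    exact Submodule.mem_sup_right (Ideal.mem_span_singleton_self s)
  obtain ⟨u, hu, v, hv, huv⟩ := Submodule.mem_sup.1 ((Ideal.eq_top_iff_one _).1 htop)
  obtain ⟨w, rfl⟩ := Ideal.mem_span_singleton'.1 hv
  rw [show x = u * x + w * (s * x) by rw [← mul_assoc, ← add_mul, huv, one_mul]]
  exact add_mem (Ideal.mul_mem_right _ _ hu) (Ideal.mul_mem_left _ _ h)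

/-- Bertini for jets on a smooth affine variety. -/
theorem exists_poly_smooth_jets {k : Type u} [Field k] [IsAlgClosed k] {A : Type u} [CommRing A] [Algebra k A]
    [Algebra.Smooth k A] (m : ℕ) (a : Fin m → A) (a₀ : A)
    (hjet : ∀ M : Ideal A, M.IsMaximal → ∀ b : A, ∃ c : Fin m → k, (∑ i, algebraMap k A (c i) * a i) - b ∈ M ^ 2) :
    ∃ p : MvPolynomial (Fin m) k, p ≠ 0 ∧ ∀ c : Fin m → k, MvPolynomial.eval c p ≠ 0 →
      Algebra.Smooth k (A ⧸ Ideal.span {a₀ + ∑ i, algebraMap k A (c i) * a i}) := by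
  classical
  obtain ⟨s, hs, H⟩ := RingHom.Smooth.locally_isStandardSmooth (RingHom.smooth_algebraMap.2 ‹Algebra.Smooth k A›)
  obtain ⟨t, hts, ht⟩ := Submodule.mem_span_finite_of_mem_span ((Ideal.eq_top_iff_one _).1 hs)
  have hchart : ∀ f ∈ t, ∃ g : MvPolynomial (Fin m) k, g ≠ 0 ∧ ∀ c : Fin m → k, MvPolynomial.eval c g ≠ 0 →
      ∀ v : Ideal A, v.IsPrime → f ∉ v → a₀ + ∑ i, algebraMap k A (c i) * a i ∈ v →
        ∃ φ : Ω[A⁄k] →ₗ[A] A, φ (D k A (a₀ + ∑ i, algebraMap k A (c i) * a i)) ∉ v := by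
    intro f hf
    let B := Localization.Away f
    cases subsingleton_or_nontrivial B with
    | inl h =>
      refine ⟨1, one_ne_zero, fun c _ v hv hfv _ => ?_⟩
      obtain ⟨⟨_, n, rfl⟩, hn⟩ := (IsLocalization.eq_iff_exists (Submonoid.powers f) B).1
        (Subsingleton.elim (algebraMap A B 1) (algebraMap A B 0))
      rw [mul_one, mul_zero] at hn
      exact absurd (hv.mem_of_pow_mem n ((show f ^ n = 0 from hn) ▸ v.zero_mem)) hfv
    | inr h =>
      haveI hG : Algebra.IsStandardSmooth k B := by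
        rw [← RingHom.isStandardSmooth_algebraMap, IsScalarTower.algebraMap_eq k A B]
        exact H f (hts hf)
      obtain ⟨ι, σ, _, _, ⟨Q⟩⟩ := hG.out
      haveI : Algebra.IsStandardSmoothOfRelativeDimension Q.dimension k B :=
        Q.isStandardSmoothOfRelativeDimension rfl
      have hjetB : ∀ M : Ideal B, M.IsMaximal → ∀ b : B,
          ∃ c : Fin m → k, (∑ i, algebraMap k B (c i) * algebraMap A B (a i)) - b ∈ M ^ 2 := by
        intro M hM b
        haveI : Algebra.FiniteType k A := inferInstance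
        haveI : Algebra.FiniteType k B := Algebra.FiniteType.trans (S := A) inferInstance inferInstance
        have hM₀ : (M.comap (IsScalarTower.toAlgHom k A B)).IsMaximal := by
          haveI := hM
          let ψ : A →+* B ⧸ M := (Ideal.Quotient.mk M).comp (algebraMap A B)
          have hψ : Function.Surjective ψ := fun y => by
            obtain ⟨t, rfl⟩ := (bijective_residue (k := k) M).2 y
            exact ⟨algebraMap k A t, by
              show Ideal.Quotient.mk M (algebraMap A B (algebraMap k A t)) = _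
              rw [← IsScalarTower.algebraMap_apply]; rfl⟩
          letI := Ideal.Quotient.field M
          have hker : RingHom.ker ψ = M.comap (algebraMap A B) := by
            rw [← RingHom.comap_ker, Ideal.mk_ker]
          exact hker ▸ RingHom.ker_isMaximal_of_surjective ψ hψ
        set M₀ : Ideal A := M.comap (algebraMap A B) with hM₀'
        haveI : M₀.IsMaximal := hM₀
        obtain ⟨⟨b', ⟨_, n, rfl⟩⟩, hb⟩ := IsLocalization.surj (Submonoid.powers f) b
        have hfM : f ∉ M₀ := fun hfm => hM.ne_top (Ideal.eq_top_of_isUnit_mem _ hfm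
          (IsLocalization.Away.algebraMap_isUnit f))
        have hfn : f ^ n ∉ M₀ := fun h => hfM ((inferInstance : M₀.IsMaximal).isPrime.mem_of_pow_mem n h)
        have htop : M₀ ^ 2 ⊔ Ideal.span {f ^ n} = ⊤ := by
          refine Ideal.pow_sup_eq_top ((inferInstance : M₀.IsMaximal).out.2 _
            (lt_of_le_of_ne le_sup_left fun e => hfn ?_))
          rw [e]
          exact Submodule.mem_sup_right (Ideal.mem_span_singleton_self _)
        obtain ⟨u, hu, w, hw, huw⟩ := Submodule.mem_sup.1 ((Ideal.eq_top_iff_one _).1 htop)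
        obtain ⟨q, rfl⟩ := Ideal.mem_span_singleton'.1 hw
        obtain ⟨c, hc⟩ := hjet M₀ inferInstance (q * b')
        refine ⟨c, ?_⟩
        have hmap : ∀ x ∈ M₀ ^ 2, algebraMap A B x ∈ M ^ 2 := fun x hx => by
          refine Ideal.le_comap_pow (algebraMap A B) 2 hx
        have h1 := hmap _ hc
        rw [map_sub, map_sum] at h1
        simp only [map_mul, ← IsScalarTower.algebraMap_apply] at h1
        have h2 : algebraMap A B q * algebraMap A B b' - b ∈ M ^ 2 := by
          have h3 : algebraMap A B (q * f ^ n) = 1 - algebraMap A B u := by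
            rw [eq_sub_iff_add_eq', ← map_add, huw, map_one]
          rw [← hb, mul_comm b, ← mul_assoc, ← map_mul, h3, sub_mul, one_mul, sub_sub_cancel_left]
          exact neg_mem (Ideal.mul_mem_right _ _ (hmap u hu))
        exact sub_add_sub_cancel (∑ i, algebraMap k B (c i) * algebraMap A B (a i))
          (algebraMap A B q * algebraMap A B b') b ▸ add_mem h1 h2
      obtain ⟨g, hg0, hg⟩ := exists_bad_jets Q.dimension m (fun i => algebraMap A B (a i)) (algebraMap A B a₀) hjetB
      refine ⟨g, hg0, fun c hc v hv hfv hmem => ?_⟩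
      have hdisj : Disjoint (Submonoid.powers f : Set A) v :=
        (Ideal.disjoint_powers_iff_notMem f hv.isRadical).2 hfv
      have hvB := IsLocalization.isPrime_of_isPrime_disjoint (Submonoid.powers f) B v hv hdisj
      have hvc := IsLocalization.comap_map_of_isPrime_disjoint (Submonoid.powers f) B hv hdisj
      set h₀ := a₀ + ∑ i, algebraMap k A (c i) * a i with hh₀
      have hh : algebraMap A B h₀ = algebraMap A B a₀ + ∑ i, algebraMap k B (c i) * algebraMap A B (a i) := by
        rw [hh₀, map_add, map_sum]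
        exact congrArg _ (Finset.sum_congr rfl fun i _ => by rw [map_mul, ← IsScalarTower.algebraMap_apply])
      obtain ⟨φ, hφ⟩ := hg c hc _ hvB (hh ▸ Ideal.mem_map_of_mem _ hmem)
      rw [← hh] at hφ
      -- clear denominators
      let ψ : Ω[A⁄k] →ₗ[A] B := (φ.restrictScalars A).comp (KaehlerDifferential.map k k A B)
      haveI : Module.Finite A Ω[A⁄k] := inferInstance
      haveI : Module.Projective A Ω[A⁄k] := inferInstance
      haveI : Module.FinitePresentation A Ω[A⁄k] := Module.finitePresentation_of_projective A _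
      obtain ⟨φ₁, u, hu⟩ := Module.FinitePresentation.exists_lift_of_isLocalizedModule
        (Submonoid.powers f) (Algebra.linearMap A B) ψ
      refine ⟨φ₁, fun hbad => hφ ?_⟩
      have h4 := LinearMap.congr_fun hu (D k A h₀)
      simp only [LinearMap.comp_apply, Algebra.linearMap_apply, LinearMap.smul_apply, ψ,
        KaehlerDifferential.map_D, LinearMap.restrictScalars_apply] at h4
      have h5 : algebraMap A B (u : A) * φ (D k B (algebraMap A B h₀)) ∈ Ideal.map (algebraMap A B) v := by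
        rw [← Algebra.smul_def]
        exact h4 ▸ Ideal.mem_map_of_mem _ hbad
      exact (hvB.mem_or_mem h5).resolve_left fun hu' => hvB.ne_top
        (Ideal.eq_top_of_isUnit_mem _ hu' (IsLocalization.map_units B u))
  choose g hg0 hg using hchart
  refine ⟨∏ f ∈ t.attach, g f.1 f.2, Finset.prod_ne_zero_iff.2 fun f _ => hg0 f.1 f.2, fun c hc => ?_⟩
  rw [map_prod, Finset.prod_ne_zero_iff] at hc
  refine smooth_quotient _ fun v hv hmem => ?_
  obtain ⟨f, hf, hfv⟩ : ∃ f ∈ t, f ∉ v := by
    by_contra! hall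
    exact hv.ne_top ((Ideal.eq_top_iff_one v).2 (Submodule.span_le.2 (fun f hf => hall f hf) ht))
  exact hg f hf c (hc ⟨f, hf⟩ (Finset.mem_attach _ _)) v hv hfv hmem

variable {k : Type u} [Field k] [IsAlgClosed k] {X : Scheme.{u}} [X.Over (Spec (CommRingCat.of k))] {L : X.Modules}

/-- Bertini for jets near an affine open with a frame. -/
theorem exists_poly_chart_jets [Smooth (X ↘ Spec (CommRingCat.of k))] (hL : PicF.IsInvertible L) (m : ℕ)
    (s : Fin m → (Coh.structureModule X ⟶ L)) (s₀ : Coh.structureModule X ⟶ L)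
    (hjet : ∀ p : X, IsClosed ({p} : Set X) → ∀ l : ↥(L.presheaf.stalk p), ∃ c : Fin m → k,
      (L.presheaf.germ ⊤ p trivial)
          (PicF2.secVal L (∑ i : Fin m, Formal.smulMod k (Coh.structureModule X) (c i) ≫ s i) ⊤) - l ∈
        (IsLocalRing.maximalIdeal ↥(X.presheaf.stalk p)) ^ 2 •
          (⊤ : Submodule ↥(X.presheaf.stalk p) ↥(L.presheaf.stalk p)))
    (U : X.affineOpens) (e : Γ(L, U.1)) (he : InvX.IsFrame e) :
    ∃ p : MvPolynomial (Fin m) k, p ≠ 0 ∧ ∀ c : Fin m → k, MvPolynomial.eval c p ≠ 0 →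
      Smooth ((PicF2.zeroScheme L (s₀ + ∑ i, Formal.smulMod k (Coh.structureModule X) (c i) ≫ s i)).subschemeCover.f U ≫
        (PicF2.zeroScheme L (s₀ + ∑ i, Formal.smulMod k (Coh.structureModule X) (c i) ≫ s i)).subschemeι ≫
          (X ↘ Spec (CommRingCat.of k))) := by
  let f := X ↘ Spec (CommRingCat.of k)
  letI := (SmoothReg.affMap f U.1).toAlgebra
  haveI : Algebra.Smooth k Γ(X, U.1) := by
    refine RingHom.smooth_algebraMap.1 ?_
    rw [RingHom.algebraMap_toAlgebra]
    exact RingHom.Smooth.respectsIso.2 _ (Scheme.ΓSpecIso (CommRingCat.of k)).symm.commRingCatIsoToRingEquiv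
      (HasRingHomProperty.appLE @Smooth f inferInstance ⟨⊤, isAffineOpen_top _⟩ U (by simp))
  have hcoord : ∀ t : Coh.structureModule X ⟶ L, ∃ a : Γ(X, U.1), ZeroSchX.sv t U.1 = a • e := fun t => by
    obtain ⟨a, ha⟩ := (he U.1 le_rfl).2 (ZeroSchX.sv t U.1)
    exact ⟨a, ha.symm.trans (by simp [AModX.res])⟩
  choose coord hco using hcoord
  have hsum : ∀ c : Fin m → k, ZeroSchX.sv (∑ i, Formal.smulMod k (Coh.structureModule X) (c i) ≫ s i) U.1 =
      (∑ i, algebraMap k Γ(X, U.1) (c i) * coord (s i)) • e := fun c => by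
    rw [sv_sum, Finset.sum_smul]
    refine Finset.sum_congr rfl fun i _ => ?_
    rw [hco (s i), smul_smul]
    congr 2
  have hjetU : ∀ M : Ideal Γ(X, U.1), M.IsMaximal → ∀ b : Γ(X, U.1), ∃ c : Fin m → k,
      (∑ i, algebraMap k Γ(X, U.1) (c i) * coord (s i)) - b ∈ M ^ 2 := by
    intro M hM b
    let q : PrimeSpectrum Γ(X, U.1) := ⟨M, hM.isPrime⟩
    have hxU : U.2.fromSpec q ∈ U.1 := U.2.range_fromSpec.le ⟨q, rfl⟩
    haveI : JacobsonSpace X := LocallyOfFiniteType.jacobsonSpace f
    have hx : IsClosed ({U.2.fromSpec q} : Set X) := by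
      have hq : (q : Spec Γ(X, U.1)) ∈ closedPoints (Spec Γ(X, U.1)) :=
        mem_closedPoints_iff.2 ((PrimeSpectrum.isClosed_singleton_iff_isMaximal q).2 hM)
      rw [← U.2.fromSpec.isOpenEmbedding.preimage_closedPoints] at hq
      exact mem_closedPoints_iff.1 hq
    set x := U.2.fromSpec q with hxq
    obtain ⟨c, hc⟩ := hjet x hx (L.presheaf.germ U.1 x hxU (b • e))
    refine ⟨c, ?_⟩
    rw [show L.presheaf.germ ⊤ x trivial (PicF2.secVal L
          (∑ i : Fin m, Formal.smulMod k (Coh.structureModule X) (c i) ≫ s i) ⊤) =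
        L.presheaf.germ U.1 x hxU ((∑ i, algebraMap k Γ(X, U.1) (c i) * coord (s i)) • e) by
      rw [← hsum, ← ZeroSchX.res_sv _ (le_top : U.1 ≤ ⊤)]
      exact (L.presheaf.germ_res_apply (homOfLE le_top) x hxU _).symm,
      ← map_sub, ← sub_smul, QCoh.germ_smul'] at hc
    set z := (∑ i, algebraMap k Γ(X, U.1) (c i) * coord (s i)) - b
    let r := X.presheaf.germ U.1 x hxU z
    have hr : r ∈ IsLocalRing.maximalIdeal (X.presheaf.stalk x) ^ 2 := by
      have hb := he.germ_bijective hxU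
      let ψ := LinearMap.toSpanSingleton (X.presheaf.stalk x) (L.presheaf.stalk x) (L.presheaf.germ U.1 x hxU e)
      have htop : (⊤ : Submodule (X.presheaf.stalk x) (L.presheaf.stalk x)) = Submodule.map ψ ⊤ := by
        rw [Submodule.map_top, LinearMap.range_eq_top.2 hb.2]
      rw [htop, ← Submodule.map_smul''] at hc
      obtain ⟨r', hr', he'⟩ := hc
      have : r' = r := hb.1 he'
      rw [this] at hr'
      simpa using hr'
    letI := X.presheaf.algebra_section_stalk ⟨x, hxU⟩
    haveI : IsLocalization.AtPrime (X.presheaf.stalk x) (U.2.primeIdealOf ⟨x, hxU⟩).asIdeal :=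
      U.2.isLocalization_stalk ⟨x, hxU⟩
    have hprime : (U.2.primeIdealOf ⟨x, hxU⟩).asIdeal = M := by
      rw [show U.2.primeIdealOf ⟨x, hxU⟩ = q from U.2.fromSpec.isOpenEmbedding.injective
        (U.2.fromSpec_primeIdealOf ⟨x, hxU⟩)]
    have hmax : IsLocalRing.maximalIdeal (X.presheaf.stalk x) ^ 2 =
        ((U.2.primeIdealOf ⟨x, hxU⟩).asIdeal ^ 2).map (algebraMap Γ(X, U.1) _) := by
      rw [Ideal.map_pow, IsLocalization.AtPrime.map_eq_maximalIdeal]
    rw [hmax] at hr
    obtain ⟨w, hw, hwr⟩ := (IsLocalization.algebraMap_mem_map_algebraMap_iff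
      (U.2.primeIdealOf ⟨x, hxU⟩).asIdeal.primeCompl (X.presheaf.stalk x) _ z).1 hr
    rw [hprime] at hwr
    replace hw : w ∉ M := fun h => hw (show w ∈ (U.2.primeIdealOf ⟨x, hxU⟩).asIdeal from hprime.symm ▸ h)
    exact mem_pow_of_mul_mem M 2 hw hwr
  obtain ⟨p, hp0, hp⟩ := exists_poly_smooth_jets (k := k) m (fun i => coord (s i)) (coord s₀) hjetU
  refine ⟨p, hp0, fun c hc => ?_⟩
  set σ := s₀ + ∑ i, Formal.smulMod k (Coh.structureModule X) (c i) ≫ s i with hσ
  have hsv : ZeroSchX.sv σ U.1 = (coord s₀ + ∑ i, algebraMap k Γ(X, U.1) (c i) * coord (s i)) • e := by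
    rw [add_smul, ← hco, ← hsum]
    rfl
  have hI : (PicF2.zeroScheme L σ).ideal U =
      Ideal.span {coord s₀ + ∑ i, algebraMap k Γ(X, U.1) (c i) * coord (s i)} := by
    rw [ZeroSchX.ideal_zeroScheme hL, ZeroSchX.zeroIdealOn_eq_span σ he hsv]
  haveI : Algebra.Smooth k (Γ(X, U.1) ⧸ (PicF2.zeroScheme L σ).ideal U) := hI ▸ hp c hc
  rw [← Category.assoc, Scheme.IdealSheafData.subschemeCover_map_subschemeι]
  show Smooth (((PicF2.zeroScheme L σ).glueDataObjι U ≫ U.1.ι) ≫ f)
  rw [Scheme.IdealSheafData.glueDataObjι_ι, Category.assoc,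
    ← IsAffineOpen.SpecMap_appLE_fromSpec f (isAffineOpen_top _) U.2 (by simp), IsAffineOpen.fromSpec_top,
    Scheme.isoSpec_Spec_inv, ← Spec.map_comp, ← Spec.map_comp, HasRingHomProperty.Spec_iff (P := @Smooth)]
  exact RingHom.smooth_algebraMap.2 (inferInstanceAs (Algebra.Smooth k (Γ(X, U.1) ⧸ (PicF2.zeroScheme L σ).ideal U)))

theorem exists_poly_jets [Smooth (X ↘ Spec (CommRingCat.of k))]
    [QuasiCompact (X ↘ Spec (CommRingCat.of k))] (hL : PicF.IsInvertible L) (m : ℕ)
    (s : Fin m → (Coh.structureModule X ⟶ L)) (s₀ : Coh.structureModule X ⟶ L)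
    (hjet : ∀ p : X, IsClosed ({p} : Set X) → ∀ l : ↥(L.presheaf.stalk p), ∃ c : Fin m → k,
      (L.presheaf.germ ⊤ p trivial)
          (PicF2.secVal L (∑ i : Fin m, Formal.smulMod k (Coh.structureModule X) (c i) ≫ s i) ⊤) - l ∈
        (IsLocalRing.maximalIdeal ↥(X.presheaf.stalk p)) ^ 2 •
          (⊤ : Submodule ↥(X.presheaf.stalk p) ↥(L.presheaf.stalk p))) :
    ∃ p : MvPolynomial (Fin m) k, p ≠ 0 ∧ ∀ c : Fin m → k, MvPolynomial.eval c p ≠ 0 →
      Smooth ((PicF2.zeroScheme L (s₀ + ∑ i, Formal.smulMod k (Coh.structureModule X) (c i) ≫ s i)).subschemeι ≫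
        (X ↘ Spec (CommRingCat.of k))) := by
  haveI : CompactSpace X := QuasiCompact.compactSpace_of_compactSpace (X ↘ Spec (CommRingCat.of k))
  have hchart : ∀ x : X, ∃ (U : X.affineOpens) (e : Γ(L, U.1)), x ∈ U.1 ∧ InvX.IsFrame e := fun x => by
    obtain ⟨U, hx, e, he⟩ := InvX.exists_frame hL x
    obtain ⟨V, hV, hxV, hVU⟩ := exists_isAffineOpen_mem_and_subset hx
    exact ⟨⟨V, hV⟩, AModX.res L hVU e, hxV, he.res hVU⟩
  choose U e hxU he using hchart
  obtain ⟨t, ht⟩ := isCompact_univ.elim_finite_subcover (fun x : X => ((U x).1 : Set X))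
    (fun x => (U x).1.2) (fun x _ => Set.mem_iUnion.2 ⟨x, hxU x⟩)
  choose p hp0 hp using fun x => exists_poly_chart_jets (k := k) hL m s s₀ hjet (U x) (e x) (he x)
  refine ⟨∏ x ∈ t, p x, Finset.prod_ne_zero_iff.2 fun x _ => hp0 x, fun c hc => ?_⟩
  rw [map_prod, Finset.prod_ne_zero_iff] at hc
  set Z := PicF2.zeroScheme L (s₀ + ∑ i, Formal.smulMod k (Coh.structureModule X) (c i) ≫ s i)
  haveI : LocallyOfFinitePresentation (Z.subschemeι ≫ X ↘ Spec (CommRingCat.of k)) :=
    LocallyOfFinitePresentation.iff_locallyOfFiniteType.2 inferInstance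
  rw [← Scheme.Hom.smoothLocus_eq_top_iff, eq_top_iff]
  intro z _
  obtain ⟨x, hxt, hzx⟩ : ∃ x ∈ t, Z.subschemeι z ∈ (U x).1 := by
    simpa using ht (Set.mem_univ (Z.subschemeι z))
  obtain ⟨y, rfl⟩ : z ∈ (Z.subschemeCover.f (U x)).opensRange := by
    rw [Scheme.IdealSheafData.opensRange_subschemeCover_map]; exact hzx
  haveI := hp x c (hc x hxt)
  rw [← Scheme.Hom.mem_preimage]
  rw [Scheme.Hom.preimage_smoothLocus_eq, Scheme.Hom.smoothLocus_eq_top]
  trivial

end Groth.Agent.Bertini5
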